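import Groth.Agent.SpTr98.Page
import Groth.Agent.S8355
import Mathlib.Algebra.Category.ModuleCat.Subobject
import Mathlib.Data.Int.Interval

/-! Traces on an abutment. -/

noncomputable section

universe u

open CategoryTheory CategoryTheory.Limits

namespace Groth.Agent.SpTr98

theorem trX_filtration {M : ModuleCat.{u} (Polynomial ℂ)} (F : ℤ → Subobject M) (hF : Antitone F)
    (hg : ∀ p, Module.Finite ℂ (Res (SpSeq.grPiece F hF p))) (c : ℤ) :
    ∀ d, c ≤ d → Module.Finite ℂ (Res (F d : ModuleCat.{u} (Polynomial ℂ))) →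
      Module.Finite ℂ (Res (F c : ModuleCat.{u} (Polynomial ℂ))) ∧
      trX (F c : ModuleCat.{u} (Polynomial ℂ)) =
        (∑ p ∈ Finset.Ico c d, trX (SpSeq.grPiece F hF p)) + trX (F d : ModuleCat.{u} (Polynomial ℂ)) := by
  intro d hd
  induction d, hd using Int.le_induction with
  | base => intro h; exact ⟨h, by simp⟩
  | succ d hd ih =>
    intro h
    haveI := h
    haveI := hg d
    let i : (F (d + 1) : ModuleCat.{u} (Polynomial ℂ)) ⟶ (F d : ModuleCat.{u} (Polynomial ℂ)) :=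
      (F (d + 1)).ofLE (F d) (hF (Int.le_add_one le_rfl))
    let q : (F d : ModuleCat.{u} (Polynomial ℂ)) ⟶ SpSeq.grPiece F hF d := cokernel.π i
    haveI : Mono i := inferInstanceAs (Mono ((F (d + 1)).ofLE (F d) _))
    have hi : Function.Injective i.hom := (ModuleCat.mono_iff_injective i).1 inferInstance
    have hq : Function.Surjective q.hom :=
      (ModuleCat.epi_iff_surjective q).1 (inferInstanceAs (Epi (cokernel.π i)))
    have hex : LinearMap.range i.hom = LinearMap.ker q.hom :=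
      (ShortComplex.moduleCat_exact_iff_range_eq_ker _).1 (ShortComplex.exact_cokernel i)
    haveI hfd : Module.Finite ℂ (Res (F d : ModuleCat.{u} (Polynomial ℂ))) := finite_of_exact hex
    obtain ⟨h1, h2⟩ := ih hfd
    refine ⟨h1, ?_⟩
    rw [h2, trX_of_exact i q hi hq hex,
      show Finset.Ico c (d + 1) = insert d (Finset.Ico c d) by ext; simp; omega,
      Finset.sum_insert (by simp)]
    ring

variable (N : ℕ) (a c : ℕ → ℝ) (b d : ℕ → ℕ)
variable (E : E₂CohomologicalSpectralSequence (ModuleCat.{u} (Polynomial ℂ)))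

theorem pages_cond (h : PageCond N a c b d (K := (E.page 2 le_rfl).X)) :
    ∀ (r : ℤ) (hr : 2 ≤ r), PageCond N a c b d (K := (E.page r hr).X) := by
  intro r hr
  induction r, hr using Int.le_induction with
  | base => exact h
  | succ r hr ih => exact page_succ_cond N a c b d E hr ih

theorem pages_tsum (ha : ∀ q, 0 ≤ a q) (hc : ∀ p, 0 ≤ c p)
    (hsum : Summable fun p : ℕ => c p * (d p : ℝ))
    (h : PageCond N a c b d (K := (E.page 2 le_rfl).X)) :
    ∀ (r : ℤ) (hr : 2 ≤ r), ∑' pq : ℤ × ℤ, sgn pq * trX ((E.page r hr).X pq) =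
      ∑' pq : ℤ × ℤ, sgn pq * trX ((E.page 2 le_rfl).X pq) := by
  intro r hr
  induction r, hr using Int.le_induction with
  | base => rfl
  | succ r hr ih =>
    exact (tsum_page_succ N a c b d E hr ha hc hsum (pages_cond N a c b d E h r hr)).trans ih

theorem stationary_of_cond (h : PageCond N a c b d (K := (E.page 2 le_rfl).X)) (pq : ℤ × ℤ) :
    SpSeq.StationaryAt E pq ((N : ℤ) + 2) := by
  refine ⟨by omega, fun r h0 hr => ?_⟩
  have hc := pages_cond N a c b d E h r h0
  have hz : ∀ x : ℤ × ℤ, x.2 < 0 ∨ (N : ℤ) < x.2 → IsZero ((E.page r h0).X x) := by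
    intro x hx
    by_cases hn : x.1 < 0 ∨ x.2 < 0
    · exact hc.quad x hn
    · obtain ⟨p, q⟩ := x
      simp only at hx hn
      lift p to ℕ using by omega
      lift q to ℕ using by omega
      exact hc.top p q (by omega)
  by_cases hb : pq.2 < 0 ∨ (N : ℤ) < pq.2
  · exact ⟨(hz pq hb).eq_of_tgt _ _, (hz pq hb).eq_of_src _ _⟩
  · refine ⟨(hz _ ?_).eq_of_src _ _, (hz _ ?_).eq_of_tgt _ _⟩
    · right; show (N : ℤ) < pq.2 - (1 - r); omega
    · left; show pq.2 + (1 - r) < 0; omega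

theorem nonempty_iso_of_stationary {pq : ℤ × ℤ} {r : ℤ} (hst : SpSeq.StationaryAt E pq r) :
    ∀ (k : ℤ) (hk : r ≤ k),
      Nonempty ((E.page r hst.1).X pq ≅ (E.page k (hst.1.trans hk)).X pq) := by
  intro k hk
  induction k, hk using Int.le_induction with
  | base => exact ⟨Iso.refl _⟩
  | succ k hk ih =>
    obtain ⟨e⟩ := ih
    have h0 := hst.1.trans hk
    obtain ⟨hd1, hd2⟩ := hst.2 k h0 hk
    have hprev : (ComplexShape.up' (⟨k, 1 - k⟩ : ℤ × ℤ)).prev pq = pq - (k, 1 - k) :=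
      ComplexShape.prev_eq' _ (by simp)
    have hnext : (ComplexShape.up' (⟨k, 1 - k⟩ : ℤ × ℤ)).next pq = pq + (k, 1 - k) :=
      ComplexShape.next_eq' _ (by simp)
    have hf : ((E.page k h0).sc pq).f = 0 := by
      change (E.page k h0).d _ pq = 0
      rw [hprev]; exact hd1
    have hg : ((E.page k h0).sc pq).g = 0 := by
      change (E.page k h0).d pq _ = 0
      rw [hnext]; exact hd2
    exact ⟨e ≪≫ (ShortComplex.HomologyData.ofZeros _ hf hg).left.homologyIso.symm ≪≫
      E.iso k (k + 1) pq rfl h0⟩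

variable {H : ℤ → ModuleCat.{u} (Polynomial ℂ)} (abut : SpSeq.Abutment E H)

theorem trX_gr (h : PageCond N a c b d (K := (E.page 2 le_rfl).X)) (pq : ℤ × ℤ) :
    Module.Finite ℂ (Res (SpSeq.grPiece (abut.fil (pq.1 + pq.2)) (abut.anti (pq.1 + pq.2)) pq.1)) ∧
      trX (SpSeq.grPiece (abut.fil (pq.1 + pq.2)) (abut.anti (pq.1 + pq.2)) pq.1) =
        trX ((E.page ((N : ℤ) + 2) (by omega)).X pq) := by
  obtain ⟨e1⟩ := nonempty_iso_of_stationary E (abut.stat pq) _ (le_max_left (abut.rk pq) ((N : ℤ) + 2))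
  obtain ⟨e2⟩ := nonempty_iso_of_stationary E (stationary_of_cond N a c b d E h pq) _
    (le_max_right (abut.rk pq) ((N : ℤ) + 2))
  haveI := (pages_cond N a c b d E h ((N : ℤ) + 2) (by omega)).fin pq
  let e := e2 ≪≫ e1.symm ≪≫ abut.β pq
  exact ⟨finite_iso e, (trX_iso e).symm⟩

theorem trX_abutment (h : PageCond N a c b d (K := (E.page 2 le_rfl).X))
    (hfin : ∀ n, abut.IsFinite n) (n : ℕ) :
    trX (H n) = ∑ x ∈ Finset.antidiagonal n,
      trX ((E.page ((N : ℤ) + 2) (by omega)).X ((x.1 : ℤ), (x.2 : ℤ))) := by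
  have hgr : ∀ p : ℤ,
      Module.Finite ℂ (Res (SpSeq.grPiece (abut.fil n) (abut.anti n) p)) ∧
        trX (SpSeq.grPiece (abut.fil n) (abut.anti n) p) =
          trX ((E.page ((N : ℤ) + 2) (by omega)).X (p, (n : ℤ) - p)) := by
    intro p
    have key : ∀ m : ℤ, m = n →
        (Module.Finite ℂ (Res (SpSeq.grPiece (abut.fil m) (abut.anti m) p)) ∧
          trX (SpSeq.grPiece (abut.fil m) (abut.anti m) p) =
            trX ((E.page ((N : ℤ) + 2) (by omega)).X (p, (n : ℤ) - p))) →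
        Module.Finite ℂ (Res (SpSeq.grPiece (abut.fil n) (abut.anti n) p)) ∧
          trX (SpSeq.grPiece (abut.fil n) (abut.anti n) p) =
            trX ((E.page ((N : ℤ) + 2) (by omega)).X (p, (n : ℤ) - p)) := fun m hm hh => by
      subst hm; exact hh
    exact key (p + ((n : ℤ) - p)) (by ring) (trX_gr N a c b d E abut h (p, (n : ℤ) - p))
  obtain ⟨⟨c₀, hc₀⟩, d₀, hd₀⟩ := hfin n
  change abut.fil n c₀ = ⊤ at hc₀
  change abut.fil n d₀ = ⊥ at hd₀
  set c1 := min c₀ 0
  set d1 := max d₀ (max c₀ ((n : ℤ) + 1))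
  have hctop : abut.fil n c1 = ⊤ := top_le_iff.1 (hc₀ ▸ abut.anti n (min_le_left _ _))
  have hdbot : abut.fil n d1 = ⊥ := le_bot_iff.1 (hd₀ ▸ abut.anti n (le_max_left _ _))
  have hz : IsZero (abut.fil n d1 : ModuleCat.{u} (Polynomial ℂ)) := by
    rw [hdbot]; exact (isZero_zero _).of_iso Subobject.botCoeIsoZero
  obtain ⟨hfc, htr⟩ := trX_filtration (abut.fil n) (abut.anti n) (fun p => (hgr p).1) c1 d1
    ((min_le_right _ _).trans (by omega)) (finite_of_isZero hz)
  haveI : IsIso (abut.fil n c1).arrow := by rw [hctop]; infer_instance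
  haveI := hfc
  rw [← trX_iso (asIso (abut.fil n c1).arrow), htr, trX_eq_zero_of_isZero hz, add_zero]
  let φ : ℕ × ℕ → ℤ := fun x => (x.1 : ℤ)
  rw [← Finset.sum_subset (s₁ := (Finset.antidiagonal n).image φ) (fun p hp => ?_) (fun p _ hp => ?_),
    Finset.sum_image]
  · refine Finset.sum_congr rfl fun x hx => ?_
    rw [Finset.mem_antidiagonal] at hx
    rw [(hgr (φ x)).2, show (n : ℤ) - φ x = (x.2 : ℤ) by simp only [φ]; omega]
  · intro x hx y hy hxy
    simp only [Finset.mem_coe, Finset.mem_antidiagonal] at hx hy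
    simp only [φ, Nat.cast_inj] at hxy
    exact Prod.ext hxy (by omega)
  · rw [Finset.mem_image] at hp
    obtain ⟨x, hx, rfl⟩ := hp
    rw [Finset.mem_antidiagonal] at hx
    rw [Finset.mem_Ico]
    simp only [φ, c1, d1]
    omega
  · rw [(hgr p).2]
    refine trX_eq_zero_of_isZero ((pages_cond N a c b d E h _ _).quad _ ?_)
    by_contra hh
    simp only [not_or, not_lt] at hh
    refine hp (Finset.mem_image.2 ⟨(p.toNat, n - p.toNat), ?_, ?_⟩)
    · rw [Finset.mem_antidiagonal]; omega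
    · simp only [φ]; omega

theorem summable_and_tsum_abutment (ha : ∀ q, 0 ≤ a q) (hc : ∀ p, 0 ≤ c p)
    (hsum : Summable fun p : ℕ => c p * (d p : ℝ))
    (h : PageCond N a c b d (K := (E.page 2 le_rfl).X)) (hfin : ∀ n, abut.IsFinite n) :
    Summable (fun n : ℕ => ‖trX (H n)‖) ∧
      ∑' n : ℕ, (-1 : ℂ) ^ n * trX (H n) =
        ∑' pq : ℕ × ℕ, (-1 : ℂ) ^ (pq.1 + pq.2) *
          trX ((E.page 2 le_rfl).X ((pq.1 : ℤ), (pq.2 : ℤ))) := by
  have hR : (2 : ℤ) ≤ (N : ℤ) + 2 := by omega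
  have hcR := pages_cond N a c b d E h ((N : ℤ) + 2) hR
  let ι : ℕ × ℕ → ℤ × ℤ := fun x => ((x.1 : ℤ), (x.2 : ℤ))
  have hι : Function.Injective ι := fun x y e => by
    simp only [ι, Prod.mk.injEq, Nat.cast_inj] at e
    exact Prod.ext e.1 e.2
  let T : ℕ × ℕ → ℂ := fun x => trX ((E.page ((N : ℤ) + 2) hR).X (ι x))
  have hT : ∀ x, ‖T x‖ ≤ maj N a c b d (ι x) := fun x =>
    norm_trX_le_maj N a c b d ha hc hcR (ι x) trX_eq_zero_of_isZero fun _ _ hb => hb
  have hnT : Summable fun x => ‖T x‖ :=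
    Summable.of_nonneg_of_le (fun x => norm_nonneg _) hT
      ((summable_maj N a c b d ha hc hsum).comp_injective hι)
  have hsT : Summable fun x : ℕ × ℕ => (-1 : ℂ) ^ (x.1 + x.2) * T x :=
    Summable.of_norm (hnT.congr fun x => by simp)
  have grp : ∀ {α : Type} [AddCommGroup α] [UniformSpace α] [IsUniformAddGroup α] [T2Space α]
      [CompleteSpace α] (F : ℕ × ℕ → α), Summable F →
        HasSum (fun n => ∑ x ∈ Finset.antidiagonal n, F x) (∑' x, F x) := by
    intro α _ _ _ _ _ F hF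
    refine ((Finset.HasAntidiagonal.sigmaAntidiagonalEquivProd (A := ℕ)).hasSum_iff.2 hF.hasSum).sigma fun n => ?_
    rw [← Finset.sum_attach]
    exact hasSum_fintype _
  have hHn : ∀ n : ℕ, (-1 : ℂ) ^ n * trX (H n) =
      ∑ x ∈ Finset.antidiagonal n, (-1 : ℂ) ^ (x.1 + x.2) * T x := fun n => by
    rw [trX_abutment N a c b d E abut h hfin n, Finset.mul_sum]
    refine Finset.sum_congr rfl fun x hx => ?_
    rw [Finset.mem_antidiagonal.1 hx]
  constructor
  · refine Summable.of_nonneg_of_le (fun n => norm_nonneg _) (fun n => ?_) (grp _ hnT).summable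
    rw [trX_abutment N a c b d E abut h hfin n]
    exact norm_sum_le _ _
  · rw [tsum_congr hHn, (grp _ hsT).tsum_eq]
    exact (tsum_nat_eq_tsum_int hcR.quad).trans ((pages_tsum N a c b d E ha hc hsum h _ hR).trans
      (tsum_nat_eq_tsum_int h.quad).symm)

end Groth.Agent.SpTr98
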