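import Groth.Agent.SpTr98.Basic
import Mathlib.Analysis.Normed.Group.InfiniteSum
import Mathlib.Analysis.Normed.Ring.InfiniteSum
import Mathlib.Topology.Algebra.InfiniteSum.Ring
import Mathlib.Algebra.Homology.SpectralSequence.Basic

/-! Alternating sums of traces on the pages of a spectral sequence. -/

noncomputable section

universe u

open CategoryTheory CategoryTheory.Limits

namespace Groth.Agent.SpTr98

variable (N : ℕ) (a c : ℕ → ℝ) (b d : ℕ → ℕ)

/-- The bounds on a page. -/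
structure PageCond {K : ℤ × ℤ → ModuleCat.{u} (Polynomial ℂ)} : Prop where
  quad : ∀ pq : ℤ × ℤ, pq.1 < 0 ∨ pq.2 < 0 → IsZero (K pq)
  fin : ∀ pq : ℤ × ℤ, Module.Finite ℂ (Res (K pq))
  top : ∀ p q : ℕ, N < q → IsZero (K ((p : ℤ), (q : ℤ)))
  bdd : ∀ p q : ℕ, Bdd (K ((p : ℤ), (q : ℤ))) (a q * c p) (b q * d p)

/-- The majorant. -/
def maj (pq : ℤ × ℤ) : ℝ :=
  if 0 ≤ pq.1 ∧ 0 ≤ pq.2 ∧ pq.2 ≤ N then
    ((b pq.2.toNat : ℝ) * a pq.2.toNat) * (c pq.1.toNat * (d pq.1.toNat : ℝ))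
  else 0

theorem summable_maj (ha : ∀ q, 0 ≤ a q) (hc : ∀ p, 0 ≤ c p)
    (hsum : Summable fun p : ℕ => c p * (d p : ℝ)) : Summable (maj N a c b d) := by
  classical
  let A : ℕ → ℝ := fun p => c p * (d p : ℝ)
  let B : ℕ → ℝ := fun q => if q ≤ N then (b q : ℝ) * a q else 0
  have hB : Summable B := summable_of_ne_finset_zero (s := Finset.range (N + 1)) fun q hq => by
    rw [Finset.mem_range] at hq
    exact if_neg (by omega)
  have hA0 : 0 ≤ A := fun p => mul_nonneg (hc p) (Nat.cast_nonneg _)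
  have hB0 : 0 ≤ B := fun q => by
    simp only [B]; split
    · exact mul_nonneg (Nat.cast_nonneg _) (ha q)
    · exact le_rfl
  have h := hsum.mul_of_nonneg hB hA0 hB0
  let ι : ℕ × ℕ → ℤ × ℤ := fun x => ((x.1 : ℤ), (x.2 : ℤ))
  have hι : Function.Injective ι := fun x y e => by
    simp only [ι, Prod.mk.injEq, Nat.cast_inj] at e
    exact Prod.ext e.1 e.2
  refine (hι.summable_iff fun x hx => ?_).1 (h.congr fun x => ?_)
  · refine if_neg fun ⟨h1, h2, _⟩ => hx ⟨(x.1.toNat, x.2.toNat), ?_⟩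
    simp only [ι, Int.toNat_of_nonneg h1, Int.toNat_of_nonneg h2, Prod.mk.eta]
  · simp only [maj, ι, Function.comp_apply, A, B, Int.toNat_natCast, Int.natCast_nonneg, true_and,
      Nat.cast_le]
    split <;> ring

/-- The sign. -/
def sgn (pq : ℤ × ℤ) : ℂ := (-1 : ℂ) ^ (pq.1 + pq.2)

theorem norm_sgn (pq : ℤ × ℤ) : ‖sgn pq‖ = 1 := by
  simp [sgn, norm_zpow]

theorem norm_trX_le_maj {K : ℤ × ℤ → ModuleCat.{u} (Polynomial ℂ)} (ha : ∀ q, 0 ≤ a q)
    (hc : ∀ p, 0 ≤ c p) (h : PageCond N a c b d (K := K)) {M : ModuleCat.{u} (Polynomial ℂ)}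
    (pq : ℤ × ℤ) (hz : IsZero (K pq) → trX M = 0)
    (hb : ∀ r n, Bdd (K pq) r n → Bdd M r n) : ‖trX M‖ ≤ maj N a c b d pq := by
  obtain ⟨p, q⟩ := pq
  by_cases hp : 0 ≤ p ∧ 0 ≤ q
  · lift p to ℕ using hp.1
    lift q to ℕ using hp.2
    by_cases hq : q ≤ N
    · refine (norm_trX_le (hb _ _ (h.bdd p q)) (mul_nonneg (ha q) (hc p))).trans (le_of_eq ?_)
      simp only [maj, Int.toNat_natCast, Int.natCast_nonneg, true_and, Nat.cast_le, if_pos hq,
        Nat.cast_mul]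
      ring
    · rw [hz (h.top p q (by omega)), norm_zero]
      exact (if_neg fun ⟨_, _, h3⟩ => hq (Nat.cast_le.1 h3)).ge
  · rw [hz (h.quad (p, q) (by simp only; omega)), norm_zero]
    exact (if_neg fun ⟨h1, h2, _⟩ => hp ⟨h1, h2⟩).ge

theorem summable_sgn_mul {f : ℤ × ℤ → ℂ} (ha : ∀ q, 0 ≤ a q) (hc : ∀ p, 0 ≤ c p)
    (hsum : Summable fun p : ℕ => c p * (d p : ℝ)) (hf : ∀ pq, ‖f pq‖ ≤ maj N a c b d pq) :
    Summable fun pq => sgn pq * f pq :=
  Summable.of_norm_bounded (summable_maj N a c b d ha hc hsum) fun pq => by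
    rw [norm_mul, norm_sgn, one_mul]; exact hf pq

variable (E : E₂CohomologicalSpectralSequence (ModuleCat.{u} (Polynomial ℂ)))

theorem page_succ_cond {r : ℤ} (hr : 2 ≤ r)
    (h : PageCond N a c b d (K := (E.page r hr).X)) :
    PageCond N a c b d (K := (E.page (r + 1) (Int.le_add_one hr)).X) := by
  have e : ∀ pq, (E.page r hr).homology pq ≅ (E.page (r + 1) (Int.le_add_one hr)).X pq :=
    fun pq => E.iso r (r + 1) pq rfl hr
  have hz : ∀ pq, IsZero ((E.page r hr).X pq) →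
      IsZero ((E.page (r + 1) (Int.le_add_one hr)).X pq) := fun pq hpq =>
    IsZero.of_iso ((E.page r hr).exactAt_iff_isZero_homology pq |>.1
      (ShortComplex.exact_of_isZero_X₂ _ hpq)) (e pq).symm
  refine ⟨fun pq hpq => hz pq (h.quad pq hpq), fun pq => ?_, fun p q hq => hz _ (h.top p q hq),
    fun p q => bdd_iso (e _) (homology_bdd _ (h.bdd p q))⟩
  haveI : Module.Finite ℂ (Res ((E.page r hr).sc pq).X₂) := h.fin pq
  haveI : Module.Finite ℂ (Res ((E.page r hr).homology pq)) :=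
    finite_homology ((E.page r hr).sc pq)
  exact finite_iso (e pq)

theorem tsum_page_succ {r : ℤ} (hr : 2 ≤ r) (ha : ∀ q, 0 ≤ a q) (hc : ∀ p, 0 ≤ c p)
    (hsum : Summable fun p : ℕ => c p * (d p : ℝ))
    (h : PageCond N a c b d (K := (E.page r hr).X)) :
    ∑' pq : ℤ × ℤ, sgn pq * trX ((E.page (r + 1) (Int.le_add_one hr)).X pq) =
      ∑' pq : ℤ × ℤ, sgn pq * trX ((E.page r hr).X pq) := by
  let δ : ℤ × ℤ := (r, 1 - r)
  let I : ℤ × ℤ → ℂ := fun pq => trX (img ((E.page r hr).d pq (pq + δ)))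
  have h' := page_succ_cond N a c b d E hr h
  have key : ∀ pq, trX ((E.page r hr).X pq) =
      I (pq - δ) + trX ((E.page (r + 1) (Int.le_add_one hr)).X pq) + I pq := by
    intro pq
    haveI : Module.Finite ℂ (Res ((E.page r hr).sc pq).X₂) := h.fin pq
    haveI : Module.Finite ℂ (Res ((E.page r hr).homology pq)) := by
      haveI := h'.fin pq
      exact finite_iso (E.iso r (r + 1) pq rfl hr).symm
    have hprev : (ComplexShape.up' δ).prev pq = pq - δ := ComplexShape.prev_eq' _ (by simp)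
    have hnext : (ComplexShape.up' δ).next pq = pq + δ := ComplexShape.next_eq' _ (by simp)
    refine (trX_homology ((E.page r hr).sc pq)).trans ?_
    have e2 : trX ((E.page r hr).homology pq) =
        trX ((E.page (r + 1) (Int.le_add_one hr)).X pq) := trX_iso (E.iso r (r + 1) pq rfl hr)
    refine congrArg₂ (· + ·) (congrArg₂ (· + ·) ?_ e2) ?_
    · show trX (img ((E.page r hr).d _ pq)) = trX (img ((E.page r hr).d (pq - δ) (pq - δ + δ)))
      rw [sub_add_cancel]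
      exact congrArg (fun z => trX (img ((E.page r hr).d z pq))) hprev
    · exact congrArg (fun z => trX (img ((E.page r hr).d pq z))) hnext
  have hI : ∀ pq, ‖I pq‖ ≤ maj N a c b d pq := fun pq =>
    norm_trX_le_maj N a c b d ha hc h pq (fun hz => trX_img_eq_zero _ (hz.eq_of_src _ _))
      fun _ _ hb => bdd_img _ hb
  have hT : ∀ pq, ‖trX ((E.page (r + 1) (Int.le_add_one hr)).X pq)‖ ≤ maj N a c b d pq := fun pq =>
    norm_trX_le_maj N a c b d ha hc h pq (fun hz => trX_eq_zero_of_isZero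
      (IsZero.of_iso ((E.page r hr).exactAt_iff_isZero_homology pq |>.1
        (ShortComplex.exact_of_isZero_X₂ _ hz)) (E.iso r (r + 1) pq rfl hr).symm))
      fun _ _ hb => bdd_iso (E.iso r (r + 1) pq rfl hr) (homology_bdd _ hb)
  have hsI := summable_sgn_mul N a c b d ha hc hsum hI
  have hsT := summable_sgn_mul N a c b d ha hc hsum hT
  have hshift : ∀ pq, sgn pq * I (pq - δ) = -(sgn (pq - δ) * I (pq - δ)) := fun pq => by
    have : sgn pq = -sgn (pq - δ) := by
      simp only [sgn, δ, Prod.fst_sub, Prod.snd_sub]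
      rw [show pq.1 + pq.2 = (pq.1 - r + (pq.2 - (1 - r))) + 1 by ring,
        zpow_add₀ (neg_ne_zero.2 one_ne_zero), zpow_one]
      ring
    rw [this, neg_mul]
  have hsS : Summable fun pq => sgn pq * I (pq - δ) :=
    (((Equiv.subRight δ).summable_iff (f := fun pq => sgn pq * I pq)).2 hsI).neg.congr
      fun pq => (hshift pq).symm
  have hS : ∑' pq : ℤ × ℤ, sgn pq * I (pq - δ) = -∑' pq : ℤ × ℤ, sgn pq * I pq := by
    rw [tsum_congr hshift, tsum_neg]
    exact congrArg Neg.neg ((Equiv.subRight δ).tsum_eq fun pq => sgn pq * I pq)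
  conv_rhs => rw [tsum_congr fun pq => by rw [key pq, mul_add, mul_add]]
  rw [(hsS.add hsT).tsum_add hsI, hsS.tsum_add hsT, hS]
  ring

theorem tsum_nat_eq_tsum_int {K : ℤ × ℤ → ModuleCat.{u} (Polynomial ℂ)}
    (h : ∀ pq : ℤ × ℤ, pq.1 < 0 ∨ pq.2 < 0 → IsZero (K pq)) :
    ∑' pq : ℕ × ℕ, (-1 : ℂ) ^ (pq.1 + pq.2) * trX (K ((pq.1 : ℤ), (pq.2 : ℤ))) =
      ∑' pq : ℤ × ℤ, sgn pq * trX (K pq) := by
  let ι : ℕ × ℕ → ℤ × ℤ := fun x => ((x.1 : ℤ), (x.2 : ℤ))
  have hι : Function.Injective ι := fun x y e => by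
    simp only [ι, Prod.mk.injEq, Nat.cast_inj] at e
    exact Prod.ext e.1 e.2
  rw [← hι.tsum_eq (f := fun pq => sgn pq * trX (K pq))]
  · refine tsum_congr fun x => ?_
    show _ = sgn ((x.1 : ℤ), (x.2 : ℤ)) * trX (K ((x.1 : ℤ), (x.2 : ℤ)))
    rw [sgn, ← Nat.cast_add, zpow_natCast]
  · intro x hx
    by_contra hn
    refine hx ?_
    have : x.1 < 0 ∨ x.2 < 0 := by
      by_contra hh
      push Not at hh
      refine hn ⟨(x.1.toNat, x.2.toNat), ?_⟩
      simp only [ι, Int.toNat_of_nonneg hh.1, Int.toNat_of_nonneg hh.2, Prod.mk.eta]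
    show sgn x * trX (K x) = 0
    rw [trX_eq_zero_of_isZero (h x this), mul_zero]

end Groth.Agent.SpTr98
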