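import Groth.Prelude.Def_SpSeq
import Groth.Agent.DiffTame.Basic
import Mathlib.Algebra.Category.ModuleCat.Abelian
import Mathlib.Algebra.Category.ModuleCat.ChangeOfRings
import Mathlib.Algebra.Homology.ShortComplex.ModuleCat
import Mathlib.Analysis.Complex.Polynomial.Basic
import Mathlib.LinearAlgebra.Eigenspace.Charpoly
import Mathlib.LinearAlgebra.Matrix.Charpoly.Eigs
import Mathlib.LinearAlgebra.FiniteDimensional.Lemmas

/-! Traces of the action of `X` on `ℂ[X]`-modules of finite dimension. -/

noncomputable section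

universe u

open CategoryTheory CategoryTheory.Limits

namespace Groth.Agent.SpTr98

/-- The underlying complex vector space. -/
abbrev Res (M : ModuleCat.{u} (Polynomial ℂ)) : ModuleCat.{u} ℂ :=
  (ModuleCat.restrictScalars (algebraMap ℂ (Polynomial ℂ))).obj M

/-- Multiplication by `X`. -/
abbrev actX (M : ModuleCat.{u} (Polynomial ℂ)) : Res M →ₗ[ℂ] Res M :=
  ((ModuleCat.restrictScalars (algebraMap ℂ (Polynomial ℂ))).map
    ((Polynomial.X : Polynomial ℂ) • 𝟙 M)).hom

/-- The underlying map of vector spaces. -/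
abbrev resMap {M N : ModuleCat.{u} (Polynomial ℂ)} (f : M ⟶ N) : Res M →ₗ[ℂ] Res N :=
  ((ModuleCat.restrictScalars (algebraMap ℂ (Polynomial ℂ))).map f).hom

/-- The trace of `X`. -/
abbrev trX (M : ModuleCat.{u} (Polynomial ℂ)) : ℂ := LinearMap.trace ℂ _ (actX M)

/-- Finite dimension with bounded eigenvalues and dimension. -/
structure Bdd (M : ModuleCat.{u} (Polynomial ℂ)) (r : ℝ) (n : ℕ) : Prop where
  fin : Module.Finite ℂ (Res M)
  eig : ∀ μ : ℂ, Module.End.HasEigenvalue (actX M) μ → ‖μ‖ ≤ r
  dim : Module.finrank ℂ (Res M) ≤ n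

theorem resMap_actX {M N : ModuleCat.{u} (Polynomial ℂ)} (f : M ⟶ N) :
    actX N ∘ₗ resMap f = resMap f ∘ₗ actX M := by
  refine LinearMap.ext fun x => ?_
  exact (f.hom.map_smul (Polynomial.X : Polynomial ℂ) x).symm

theorem range_resMap_eq_ker {U V W : ModuleCat.{u} (Polynomial ℂ)} {f : U ⟶ V} {g : V ⟶ W}
    (h : LinearMap.range f.hom = LinearMap.ker g.hom) :
    LinearMap.range (resMap f) = LinearMap.ker (resMap g) := by
  refine Submodule.ext fun x => ?_
  constructor
  · rintro ⟨y, rfl⟩
    have : f.hom y ∈ LinearMap.ker g.hom := h ▸ ⟨y, rfl⟩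
    exact this
  · intro hx
    have : x ∈ LinearMap.range f.hom := h.symm ▸ (show x ∈ LinearMap.ker g.hom from hx)
    obtain ⟨y, hy⟩ := this
    exact ⟨y, hy⟩

theorem finite_of_exact {U V W : ModuleCat.{u} (Polynomial ℂ)} {f : U ⟶ V} {g : V ⟶ W}
    (h : LinearMap.range f.hom = LinearMap.ker g.hom) [Module.Finite ℂ (Res U)]
    [Module.Finite ℂ (Res W)] : Module.Finite ℂ (Res V) := by
  haveI : Module.Finite ℂ (LinearMap.ker (resMap g)) := by
    rw [← range_resMap_eq_ker h]
    infer_instance
  haveI : Module.Finite ℂ (Res V ⧸ LinearMap.ker (resMap g)) :=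
    Module.Finite.equiv (resMap g).quotKerEquivRange.symm
  exact Module.Finite.of_submodule_quotient (LinearMap.ker (resMap g))

theorem norm_trX_le {M : ModuleCat.{u} (Polynomial ℂ)} {r : ℝ} {n : ℕ} (h : Bdd M r n) (hr : 0 ≤ r) :
    ‖trX M‖ ≤ n * r := by
  haveI := h.fin
  let b := Module.finBasis ℂ (Res M)
  rw [trX, LinearMap.trace_eq_matrix_trace ℂ b, Matrix.trace_eq_sum_roots_charpoly]
  have hroots : ∀ μ ∈ ((LinearMap.toMatrix b b (actX M)).charpoly.roots), ‖μ‖ ≤ r := fun μ hμ => by
    refine h.eig μ ((Module.End.hasEigenvalue_iff_isRoot_charpoly (actX M) μ).2 ?_)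
    rw [← LinearMap.charpoly_toMatrix (actX M) b]
    exact (Polynomial.mem_roots'.1 hμ).2
  refine (norm_multiset_sum_le _).trans ?_
  refine (Multiset.sum_le_card_nsmul _ r fun y hy => ?_).trans ?_
  · obtain ⟨μ, hμ, rfl⟩ := Multiset.mem_map.1 hy
    exact hroots μ hμ
  · rw [nsmul_eq_mul, Multiset.card_map]
    refine mul_le_mul_of_nonneg_right ?_ hr
    have := Polynomial.card_roots' (LinearMap.toMatrix b b (actX M)).charpoly
    rw [Matrix.charpoly_natDegree_eq_dim, Fintype.card_fin] at this
    exact_mod_cast this.trans h.dim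

theorem trX_eq_zero_of_isZero {M : ModuleCat.{u} (Polynomial ℂ)} (h : IsZero M) : trX M = 0 := by
  haveI := ModuleCat.subsingleton_of_isZero h
  haveI : Subsingleton (Res M) := inferInstanceAs (Subsingleton M)
  rw [trX, show actX M = 0 from LinearMap.ext fun x => Subsingleton.elim _ _, map_zero]

theorem finite_of_isZero {M : ModuleCat.{u} (Polynomial ℂ)} (h : IsZero M) :
    Module.Finite ℂ (Res M) := by
  haveI := ModuleCat.subsingleton_of_isZero h
  haveI : Subsingleton (Res M) := inferInstanceAs (Subsingleton M)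
  infer_instance

section Exact

variable {U V W : ModuleCat.{u} (Polynomial ℂ)} (f : U ⟶ V) (g : V ⟶ W)
  (hf : Function.Injective f.hom) (hg : Function.Surjective g.hom)
  (h : LinearMap.range f.hom = LinearMap.ker g.hom)

theorem finite_left (hf : Function.Injective f.hom) [Module.Finite ℂ (Res V)] :
    Module.Finite ℂ (Res U) :=
  Module.Finite.of_injective (resMap f) hf

theorem finite_right (hg : Function.Surjective g.hom) [Module.Finite ℂ (Res V)] :
    Module.Finite ℂ (Res W) :=
  Module.Finite.of_surjective (resMap g) hg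

include hf hg h in
theorem trX_of_exact [Module.Finite ℂ (Res V)] : trX V = trX U + trX W := by
  haveI := finite_left f hf
  haveI := finite_right g hg
  exact DiffTame.trace_of_exact (resMap f) (resMap g) hf hg (range_resMap_eq_ker h)
    (resMap_actX f) (resMap_actX g)

theorem bdd_left {r : ℝ} {n : ℕ} (hf : Function.Injective f.hom) (hV : Bdd V r n) : Bdd U r n := by
  haveI := hV.fin
  haveI := finite_left f hf
  refine ⟨inferInstance, fun μ hμ => hV.eig μ ?_, ?_⟩
  · obtain ⟨x, hx⟩ := hμ.exists_hasEigenvector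
    refine Module.End.hasEigenvalue_of_hasEigenvector (x := resMap f x) ⟨?_, fun e => hx.2 ?_⟩
    · rw [Module.End.mem_eigenspace_iff]
      have := LinearMap.congr_fun (resMap_actX f) x
      rw [LinearMap.comp_apply, LinearMap.comp_apply, hx.apply_eq_smul, map_smul] at this
      exact this
    · exact hf (e.trans (map_zero f.hom).symm)
  · exact (LinearMap.finrank_le_finrank_of_injective (f := resMap f) hf).trans hV.dim

theorem bdd_right {r : ℝ} {n : ℕ} (hg : Function.Surjective g.hom) (hV : Bdd V r n) : Bdd W r n := by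
  haveI := hV.fin
  haveI := finite_right g hg
  refine ⟨inferInstance, fun μ hμ => hV.eig μ ?_, ?_⟩
  · by_contra hn
    have hinj : Function.Injective (actX V - μ • (1 : Module.End ℂ (Res V))) := by
      rw [← LinearMap.ker_eq_bot]
      by_contra hk
      obtain ⟨x, hx, hx0⟩ := Submodule.exists_mem_ne_zero_of_ne_bot hk
      refine hn (Module.End.hasEigenvalue_of_hasEigenvector (x := x) ⟨?_, hx0⟩)
      rw [Module.End.mem_eigenspace_iff, ← sub_eq_zero]
      simpa [LinearMap.mem_ker] using hx
    have hsurj := (LinearMap.injective_iff_surjective).1 hinj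
    have hsurjW : Function.Surjective (actX W - μ • (1 : Module.End ℂ (Res W))) := by
      intro w
      obtain ⟨v, rfl⟩ := hg w
      obtain ⟨x, rfl⟩ := hsurj v
      refine ⟨resMap g x, ?_⟩
      have := LinearMap.congr_fun (resMap_actX g) x
      simp only [LinearMap.comp_apply] at this
      show actX W (resMap g x) - μ • resMap g x = resMap g (actX V x - μ • x)
      rw [map_sub, map_smul, this]
    have hinjW := (LinearMap.injective_iff_surjective).2 hsurjW
    obtain ⟨x, hx⟩ := hμ.exists_hasEigenvector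
    refine hx.2 (hinjW ?_)
    rw [map_zero]
    show actX W x - μ • x = 0
    rw [hx.apply_eq_smul, sub_self]
  · exact (LinearMap.finrank_le_finrank_of_surjective (f := resMap g) hg).trans hV.dim

end Exact

theorem iso_bijective {M N : ModuleCat.{u} (Polynomial ℂ)} (e : M ≅ N) :
    Function.Bijective e.hom.hom :=
  e.toLinearEquiv.bijective

theorem bdd_iso {M N : ModuleCat.{u} (Polynomial ℂ)} (e : M ≅ N) {r : ℝ} {n : ℕ} (h : Bdd M r n) :
    Bdd N r n :=
  bdd_right e.hom (iso_bijective e).2 h

theorem finite_iso {M N : ModuleCat.{u} (Polynomial ℂ)} (e : M ≅ N) [Module.Finite ℂ (Res M)] :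
    Module.Finite ℂ (Res N) :=
  finite_right e.hom (iso_bijective e).2

theorem trX_iso {M N : ModuleCat.{u} (Polynomial ℂ)} (e : M ≅ N) [Module.Finite ℂ (Res M)] :
    trX M = trX N := by
  haveI := finite_iso e
  have hz : IsZero (ModuleCat.of (Polynomial ℂ) PUnit.{u + 1}) := ModuleCat.isZero_of_subsingleton _
  have := trX_of_exact e.hom (0 : N ⟶ ModuleCat.of (Polynomial ℂ) PUnit.{u + 1}) (iso_bijective e).1
    (fun x => ⟨0, Subsingleton.elim (α := PUnit.{u + 1}) _ _⟩) (by
      rw [LinearMap.range_eq_top.2 (iso_bijective e).2, ModuleCat.hom_zero, LinearMap.ker_zero])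
  rw [trX_eq_zero_of_isZero hz, add_zero] at this
  exact this.symm

/-- The image of a map. -/
abbrev img {M N : ModuleCat.{u} (Polynomial ℂ)} (f : M ⟶ N) : ModuleCat.{u} (Polynomial ℂ) :=
  ModuleCat.of (Polynomial ℂ) (LinearMap.range f.hom)

theorem bdd_img {M N : ModuleCat.{u} (Polynomial ℂ)} (f : M ⟶ N) {r : ℝ} {n : ℕ} (h : Bdd M r n) :
    Bdd (img f) r n :=
  bdd_right (ModuleCat.ofHom f.hom.rangeRestrict : M ⟶ img f) f.hom.surjective_rangeRestrict h

theorem trX_img_eq_zero {M N : ModuleCat.{u} (Polynomial ℂ)} (f : M ⟶ N) (h : f = 0) :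
    trX (img f) = 0 := by
  haveI : Subsingleton (LinearMap.range f.hom) := by
    rw [h, ModuleCat.hom_zero, LinearMap.range_zero]
    infer_instance
  exact trX_eq_zero_of_isZero (ModuleCat.isZero_of_subsingleton _)

theorem homology_bdd (S : ShortComplex (ModuleCat.{u} (Polynomial ℂ))) {r : ℝ} {n : ℕ}
    (h : Bdd S.X₂ r n) :
    Bdd S.homology r n := by
  let K : ModuleCat.{u} (Polynomial ℂ) := ModuleCat.of (Polynomial ℂ) (LinearMap.ker S.g.hom)
  have hK : Bdd K r n :=
    bdd_left (ModuleCat.ofHom (LinearMap.ker S.g.hom).subtype : K ⟶ S.X₂) Subtype.val_injective h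
  have hQ : Bdd (ModuleCat.of (Polynomial ℂ)
      (LinearMap.ker S.g.hom ⧸ LinearMap.range S.moduleCatToCycles)) r n :=
    bdd_right (ModuleCat.ofHom (LinearMap.range S.moduleCatToCycles).mkQ : K ⟶ _)
      (Submodule.mkQ_surjective _) hK
  exact bdd_iso S.moduleCatHomologyIso.symm hQ

theorem finite_homology (S : ShortComplex (ModuleCat.{u} (Polynomial ℂ))) [Module.Finite ℂ (Res S.X₂)] :
    Module.Finite ℂ (Res S.homology) := by
  let K : ModuleCat.{u} (Polynomial ℂ) := ModuleCat.of (Polynomial ℂ) (LinearMap.ker S.g.hom)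
  let Q : ModuleCat.{u} (Polynomial ℂ) := ModuleCat.of (Polynomial ℂ)
    (LinearMap.ker S.g.hom ⧸ LinearMap.range S.moduleCatToCycles)
  haveI : Module.Finite ℂ (Res K) :=
    finite_left (ModuleCat.ofHom (LinearMap.ker S.g.hom).subtype : K ⟶ S.X₂) Subtype.val_injective
  haveI : Module.Finite ℂ (Res Q) :=
    finite_right (ModuleCat.ofHom (LinearMap.range S.moduleCatToCycles).mkQ : K ⟶ Q)
      (Submodule.mkQ_surjective _)
  let e : S.homology ≅ Q := S.moduleCatHomologyIso
  exact finite_iso e.symm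

theorem trX_homology (S : ShortComplex (ModuleCat.{u} (Polynomial ℂ))) [Module.Finite ℂ (Res S.X₂)] :
    trX S.X₂ = trX (img S.f) + trX S.homology + trX (img S.g) := by
  let K : ModuleCat.{u} (Polynomial ℂ) := ModuleCat.of (Polynomial ℂ) (LinearMap.ker S.g.hom)
  let Q : ModuleCat.{u} (Polynomial ℂ) := ModuleCat.of (Polynomial ℂ)
    (LinearMap.ker S.g.hom ⧸ LinearMap.range S.moduleCatToCycles)
  let ι : K ⟶ S.X₂ := ModuleCat.ofHom (LinearMap.ker S.g.hom).subtype
  haveI : Module.Finite ℂ (Res K) := finite_left ι Subtype.val_injective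
  have h1 : trX S.X₂ = trX K + trX (img S.g) :=
    trX_of_exact ι (ModuleCat.ofHom S.g.hom.rangeRestrict : S.X₂ ⟶ img S.g) Subtype.val_injective
      S.g.hom.surjective_rangeRestrict (by
        show LinearMap.range (LinearMap.ker S.g.hom).subtype = LinearMap.ker S.g.hom.rangeRestrict
        rw [Submodule.range_subtype, LinearMap.ker_rangeRestrict])
  have hle : LinearMap.range S.f.hom ≤ LinearMap.ker S.g.hom := by
    rintro x ⟨y, rfl⟩
    exact S.moduleCat_zero_apply y
  let j : img S.f ⟶ K := ModuleCat.ofHom (Submodule.inclusion hle)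
  let q : K ⟶ Q := ModuleCat.ofHom (LinearMap.range S.moduleCatToCycles).mkQ
  have h2 : trX K = trX (img S.f) + trX Q :=
    trX_of_exact j q (Submodule.inclusion_injective hle) (Submodule.mkQ_surjective _) (by
      show LinearMap.range j.hom = LinearMap.ker (LinearMap.range S.moduleCatToCycles).mkQ
      rw [Submodule.ker_mkQ]
      refine Submodule.ext fun z => ⟨?_, ?_⟩
      · rintro ⟨⟨_, y, rfl⟩, rfl⟩
        exact ⟨y, Subtype.ext rfl⟩
      · rintro ⟨y, rfl⟩
        exact ⟨⟨_, y, rfl⟩, Subtype.ext rfl⟩)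
  haveI : Module.Finite ℂ (Res Q) := finite_right q (Submodule.mkQ_surjective _)
  let e : S.homology ≅ Q := S.moduleCatHomologyIso
  haveI : Module.Finite ℂ (Res S.homology) := finite_iso e.symm
  rw [h1, h2, trX_iso e]

end Groth.Agent.SpTr98
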